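import Cfsg.Agent.StabLength.Iface
import Cfsg.Agent.OddBase.Prim
import Mathlib.GroupTheory.SpecificGroups.Cyclic

/-!
Stabilisers in a primitive soluble linear group: derived length and counting of orbits.
-/

set_option autoImplicit false
set_option linter.unusedSectionVars false
set_option linter.style.haveILetI false

universe u

namespace CfsgLib.StabLength.Prim

open OddBase
open scoped Classical commutatorElement

variable {V : Type u} [AddCommGroup V]

section Setup

variable [Finite V] (S : Setup (Aut V))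

/-- Conjugation on the cyclic normal subgroup. -/
def scal : S.A →* MulAut S.A0 where
  toFun g :=
    { toFun := fun a => ⟨(g : Aut V) * a * (g : Aut V)⁻¹, S.a0_norm g g.2 a a.2⟩
      invFun := fun a => ⟨(g : Aut V)⁻¹ * a * (g : Aut V), by
        simpa using S.a0_norm _ (S.A.inv_mem g.2) a a.2⟩
      left_inv := fun a => Subtype.ext (by simp [mul_assoc])
      right_inv := fun a => Subtype.ext (by simp [mul_assoc])
      map_mul' := fun a b => Subtype.ext (by simp [mul_assoc]) }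
  map_one' := MulEquiv.ext fun a => Subtype.ext (by simp)
  map_mul' g h := MulEquiv.ext fun a => Subtype.ext (by simp [mul_assoc])

lemma scal_eq_one {g : S.A} (h : scal S g = 1)
    (hC : S.C = S.A ⊓ Subgroup.centralizer (S.A0 : Set (Aut V))) : (g : Aut V) ∈ S.C := by
  rw [hC]
  refine ⟨g.2, Subgroup.mem_centralizer_iff.mpr fun a ha => ?_⟩
  have h1 := congrArg Subtype.val (MulEquiv.ext_iff.mp h ⟨a, ha⟩)
  exact (mul_inv_eq_iff_eq_mul.mp h1).symm

lemma scal_comm (σ τ : MulAut S.A0) : σ * τ = τ * σ := by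
  haveI := S.cyc
  obtain ⟨γ, hγ⟩ := IsCyclic.exists_zpow_surjective (G := S.A0)
  obtain ⟨i, hi⟩ := hγ (σ γ)
  obtain ⟨j, hj⟩ := hγ (τ γ)
  refine MulEquiv.ext fun a => ?_
  obtain ⟨n, rfl⟩ := hγ a
  change γ ^ i = σ γ at hi
  change γ ^ j = τ γ at hj
  simp only [MulAut.mul_apply, map_zpow, ← hi, ← hj, ← zpow_mul, mul_comm i j]

/-- The joint map to the scalars and the symplectic group. -/
def tops : S.A →* MulAut S.A0 × Aut (Additive S.U) := (scal S).prod S.act

lemma tops_eq_one {g : S.A} (h : tops S g = 1)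
    (hC : S.C = S.A ⊓ Subgroup.centralizer (S.A0 : Set (Aut V))) : (g : Aut V) ∈ S.E := by
  simp only [tops, MonoidHom.prod_apply, Prod.mk_eq_one] at h
  have hgC := scal_eq_one S h.1 hC
  have hk : (⟨g, hgC⟩ : S.C) ∈ (S.act.comp (Subgroup.inclusion S.c_le)).ker := h.2
  rw [S.ker_act_C] at hk
  exact hk

variable (hC : S.C = S.A ⊓ Subgroup.centralizer (S.A0 : Set (Aut V)))

include hC in
/-- A subgroup is controlled by its image and its intersection with `E`. -/
theorem dl_tops {T : Subgroup (Aut V)} (hT : T ≤ S.A) {k b : ℕ} (hk1 : 1 ≤ k)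
    (hk : DL (S.act.comp (Subgroup.inclusion hT)).range k)
    (hb : DL (T ⊓ S.E : Subgroup (Aut V)) b) : DL T (k + b) := by
  let ψ := (tops S).comp (Subgroup.inclusion hT)
  refine DL.of_ker ψ.rangeRestrict ?_ ?_
  · have h1 : DL (MulAut S.A0) k := (DL.of_comm (scal_comm S)).mono hk1
    let e : ψ.range →* MulAut S.A0 × (S.act.comp (Subgroup.inclusion hT)).range :=
      MonoidHom.prod ((MonoidHom.fst _ _).comp ψ.range.subtype)
        (((MonoidHom.snd _ _).comp ψ.range.subtype).codRestrict _ fun z => by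
          obtain ⟨_, t, rfl⟩ := z
          exact ⟨t, rfl⟩)
    refine (h1.prod hk).of_injective e fun x y h => ?_
    simp only [e, MonoidHom.prod_apply, Prod.ext_iff] at h
    exact Subtype.ext (Prod.ext h.1 (congrArg Subtype.val h.2))
  · rw [MonoidHom.ker_rangeRestrict]
    refine hb.of_injective ((T.subtype.comp ψ.ker.subtype).codRestrict (T ⊓ S.E : Subgroup (Aut V))
      fun g => ⟨(g : T).2, tops_eq_one S g.2 hC⟩) ?_
    exact fun a b h => Subtype.ext (Subtype.ext (congrArg Subtype.val h :))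

lemma dl_E : DL S.E 2 := by
  refine DL.of_ker (a := 1) (b := 1) (QuotientGroup.mk' (S.A0.subgroupOf S.E))
    (DL.of_comm fun a b => S.commU.mul_comm a b) (DL.of_comm fun a b => Subtype.ext (Subtype.ext ?_))
  exact S.cen _ (S.e_le (a : S.E).2) _ (Subgroup.mem_subgroupOf.mp ((QuotientGroup.eq_one_iff _).mp b.2))

include hC in
theorem dl_A {k : ℕ} (hk1 : 1 ≤ k) (hk : DL S.act.range k) : DL S.A (k + 2) := by
  refine dl_tops S hC le_rfl hk1 (hk.of_le ?_) ((dl_E S).of_le inf_le_right)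
  rintro _ ⟨g, rfl⟩
  exact ⟨_, rfl⟩


lemma comm_stab_E (hf : ∀ a ∈ S.A0, a ≠ 1 → ∀ v : V, a • v = v → v = 0) {w : V} (hw : w ≠ 0)
    {x y : Aut V} (hx : x ∈ S.E) (hy : y ∈ S.E) (hxw : x • w = w) (hyw : y • w = w) : x * y = y * x := by
  refine commutatorElement_eq_one_iff_mul_comm.mp ?_
  by_contra hne
  refine hw (hf _ (S.comm x hx y hy) hne w ?_)
  rw [commutatorElement_def, mul_smul, mul_smul, mul_smul, inv_smul_eq_iff.mpr hyw.symm,
    inv_smul_eq_iff.mpr hxw.symm, hyw, hxw]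

include hC in
/-- A point stabiliser is one step longer than its image. -/
theorem dl_stab_succ (hf : ∀ a ∈ S.A0, a ≠ 1 → ∀ v : V, a • v = v → v = 0) {w : V} (hw : w ≠ 0)
    {k : ℕ} (hk1 : 1 ≤ k)
    (hk : DL (S.act.comp (Subgroup.inclusion (inf_le_left : stabV S.A w ≤ S.A))).range k) :
    DL (stabV S.A w) (k + 1) := by
  refine dl_tops S hC inf_le_left hk1 hk (DL.of_comm fun a b => Subtype.ext ?_)
  exact comm_stab_E S hf hw a.2.2 b.2.2 a.2.1.2 b.2.1.2

lemma range_le {T : Subgroup (Aut V)} (hT : T ≤ S.A) :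
    (S.act.comp (Subgroup.inclusion hT)).range ≤ S.act.range := by
  rintro _ ⟨g, rfl⟩
  exact ⟨_, rfl⟩

include hC in
/-- No loss when the image is irreducible. -/
theorem dl_stab_irr (hf : ∀ a ∈ S.A0, a ≠ 1 → ∀ v : V, a • v = v → v = 0) {w : V} (hw : w ≠ 0)
    (hU : Nat.card S.U ≠ 1) {k : ℕ} (hk1 : 1 ≤ k)
    (hirr : Irr (S.act.comp (Subgroup.inclusion (inf_le_left : stabV S.A w ≤ S.A))).range)
    (hk : DL (S.act.comp (Subgroup.inclusion (inf_le_left : stabV S.A w ≤ S.A))).range k) :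
    DL (stabV S.A w) k := by
  refine dl_tops S hC inf_le_left hk1 hk (b := 0) ?_
  set T := stabV S.A w
  let X : AddSubgroup (Additive S.U) := Subgroup.toAddSubgroup
    (((T ⊓ S.E).subgroupOf S.E).map (QuotientGroup.mk' (S.A0.subgroupOf S.E)))
  have hX : Inv (S.act.comp (Subgroup.inclusion (inf_le_left : T ≤ S.A))).range X := by
    rintro _ ⟨t, rfl⟩ x ⟨e, he, hex⟩
    refine ⟨⟨(t : Aut V) * e * (t : Aut V)⁻¹, S.e_norm t t.2.1 e e.2⟩, ?_, ?_⟩
    · exact ⟨T.mul_mem (T.mul_mem t.2 he.1) (T.inv_mem t.2), S.e_norm t t.2.1 e e.2⟩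
    · rw [show x = Additive.ofMul (QuotientGroup.mk e : S.U) from congrArg Additive.ofMul hex.symm]
      rfl
  refine (Subgroup.eq_bot_iff_forall _).mpr fun z _ => Subtype.ext ?_
  rcases hirr X hX with hb | ht
  · have hz : (QuotientGroup.mk (⟨z, z.2.2⟩ : S.E) : S.U) = 1 := by
      have : Additive.ofMul (QuotientGroup.mk (⟨z, z.2.2⟩ : S.E) : S.U) ∈ X := ⟨⟨z, z.2.2⟩, z.2, rfl⟩
      rw [hb, AddSubgroup.mem_bot] at this
      exact this
    rw [QuotientGroup.eq_one_iff, Subgroup.mem_subgroupOf] at hz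
    by_contra hne
    exact hw (hf _ hz hne w z.2.1.2)
  · exfalso
    have hall : ∀ a b : S.U, S.beta a b = 1 := fun a b => by
      obtain ⟨e, he, rfl⟩ : Additive.ofMul a ∈ X := by rw [ht]; trivial
      obtain ⟨e', he', rfl⟩ : Additive.ofMul b ∈ X := by rw [ht]; trivial
      refine Subtype.ext ((S.beta_apply e e').trans ?_)
      exact commutatorElement_eq_one_iff_mul_comm.mpr
        (comm_stab_E S hf hw e.2 e'.2 he.1.2 he'.1.2)
    haveI : Subsingleton S.U := ⟨fun a b => (S.beta_nd a (hall a)).trans (S.beta_nd b (hall b)).symm⟩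
    exact hU (Nat.card_of_subsingleton (1 : S.U))

end Setup

variable [Finite V] {A : Subgroup (Aut V)}

/-- Many vectors with short stabilisers give five orbits. -/
theorem five_of_many (s : Set V) (hs : ∀ v ∈ s, DL (stabV A v) 9) (hc : 4 * Nat.card A < s.ncard) :
    Five A := by
  have hfin : ∀ t : Finset V, t.card ≤ 4 → ∃ v ∈ s, ∀ w ∈ t, ∀ a ∈ A, a • w ≠ v ∧ a • v ≠ w := by
    intro t ht
    by_contra h
    push Not at h
    have hsub : s ⊆ ⋃ w ∈ t, (fun a : A => (a : Aut V) • w) '' Set.univ := fun v hv => by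
      obtain ⟨w, hw, a, ha, e⟩ := h v hv
      simp only [Set.mem_iUnion, Set.mem_image, Set.mem_univ, true_and]
      by_cases e' : a • w = v
      · exact ⟨w, hw, ⟨a, ha⟩, e'⟩
      · exact ⟨w, hw, ⟨a⁻¹, A.inv_mem ha⟩, by rw [inv_smul_eq_iff, e e']⟩
    have h1 : s.ncard ≤ (⋃ w ∈ t, (fun a : A => (a : Aut V) • w) '' Set.univ).ncard :=
      Set.ncard_le_ncard hsub (Set.toFinite _)
    have h2 := (Finset.set_ncard_biUnion_le t fun w => (fun a : A => (a : Aut V) • w) '' Set.univ).trans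
      (Finset.sum_le_card_nsmul t _ (Nat.card A) fun w _ =>
        (Set.ncard_image_le (Set.toFinite _)).trans (Set.ncard_univ A).le)
    rw [smul_eq_mul] at h2
    have h3 : t.card * Nat.card A ≤ 4 * Nat.card A := Nat.mul_le_mul_right _ ht
    omega
  obtain ⟨v0, h0, -⟩ := hfin ∅ (by simp)
  obtain ⟨v1, h1, n1⟩ := hfin {v0} (by simp)
  obtain ⟨v2, h2, n2⟩ := hfin {v0, v1} (by exact Finset.card_le_two.trans (by norm_num))
  obtain ⟨v3, h3, n3⟩ := hfin {v0, v1, v2} (Finset.card_le_three.trans (by norm_num))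
  obtain ⟨v4, h4, n4⟩ := hfin {v0, v1, v2, v3} Finset.card_le_four
  refine ⟨![v0, v1, v2, v3, v4], fun i => ?_, fun i j hij a ha => ?_⟩
  · fin_cases i <;> simp <;> first | exact hs _ h0 | exact hs _ h1 | exact hs _ h2 | exact hs _ h3 | exact hs _ h4
  · simp only [Finset.mem_insert, Finset.mem_singleton, forall_eq_or_imp, forall_eq] at n1 n2 n3 n4
    have := n1 a ha
    have := n2.1 a ha
    have := n2.2 a ha
    have := n3.1 a ha
    have := n3.2.1 a ha
    have := n3.2.2 a ha
    have := n4.1 a ha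
    have := n4.2.1 a ha
    have := n4.2.2.1 a ha
    have := n4.2.2.2 a ha
    fin_cases i <;> fin_cases j <;> simp at hij ⊢ <;> tauto

/-- Five non-zero orbits, or few vectors. -/
theorem five_or_small (h : ∀ w : V, w ≠ 0 → DL (stabV A w) 9) :
    Five A ∨ Nat.card V ≤ 1 + 4 * Nat.card A := by
  by_contra hcon
  push Not at hcon
  refine hcon.1 (five_of_many {w | w ≠ 0} (fun w hw => h w hw) ?_)
  have h1 := Set.ncard_compl ({0} : Set V)
  rw [Set.ncard_singleton] at h1
  have h2 : ({w : V | w ≠ 0}) = ({0} : Set V)ᶜ := by ext; simp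
  rw [h2, h1]
  omega

end CfsgLib.StabLength.Prim
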