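import Mathlib.Algebra.Order.Ring.Nat
import Mathlib.Data.Nat.Factorization.Basic
import Mathlib.Tactic.IntervalCases
import Mathlib.Tactic.Linarith
import Mathlib.Tactic.Ring
import Mathlib.Tactic.NormNum.Prime

/-!
Arithmetic for stabilisers in primitive soluble linear groups: `q ^ m` vectors over a field of `q`
elements, a symplectic factor of order `e ^ 2` with `e ≤ m`, primes of `e` dividing `q - 1`.
-/

set_option autoImplicit false

namespace CfsgLib.StabLength.Prim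

/-- The primes of `e` divide `q - 1`. -/
def PrimesDvd (e q : ℕ) : Prop := ∀ r : ℕ, r.Prime → r ∣ e → r ∣ q - 1

lemma PrimesDvd.lt {e q r : ℕ} (h : PrimesDvd e q) (hq : 2 ≤ q) (hr : r.Prime) (hd : r ∣ e) : r < q := by
  have := Nat.le_of_dvd (by omega) (h r hr hd)
  omega

lemma PrimesDvd.three_le {e q : ℕ} (h : PrimesDvd e q) (hq : 2 ≤ q) (he : e ≠ 1) : 3 ≤ q := by
  obtain ⟨r, hr, hd⟩ := Nat.exists_prime_and_dvd he
  have := h.lt hq hr hd
  have := hr.two_le
  omega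

lemma PrimesDvd.two_pow_or_four {e q : ℕ} (h : PrimesDvd e q) (hq : 2 ≤ q) (he : e ≠ 0) :
    (∃ k, e = 2 ^ k) ∨ 4 ≤ q := by
  by_cases hall : ∀ {r : ℕ}, r.Prime → r ∣ e → r = 2
  · exact Or.inl ⟨_, Nat.eq_prime_pow_of_unique_prime_dvd he hall⟩
  · push Not at hall
    obtain ⟨r, hr, hd, h2⟩ := hall
    have := h.lt hq hr hd
    have := hr.two_le
    exact Or.inr (by omega)

lemma big_ineq {q m : ℕ} (h : (6 ≤ q ∧ 125 ≤ m) ∨ (3 ≤ q ∧ 243 ≤ m)) :
    625 * q ^ 8 * m ^ 32 < q ^ m := by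
  have key : ∀ m0, 125 ≤ m0 → 3 ≤ q → 625 * q ^ 8 * m0 ^ 32 < q ^ m0 →
      ∀ m, m0 ≤ m → 625 * q ^ 8 * m ^ 32 < q ^ m := by
    intro m0 hm0 hq h0 m hm
    induction m, hm using Nat.le_induction with
    | base => exact h0
    | succ m hm ih =>
      have h1 : (m + 1) ^ 32 ≤ 3 * m ^ 32 := by
        have h2 : (125 * (m + 1)) ^ 32 ≤ (126 * m) ^ 32 := Nat.pow_le_pow_left (by omega) 32
        rw [mul_pow, mul_pow] at h2
        have h3 : 126 ^ 32 * m ^ 32 ≤ (3 * 125 ^ 32) * m ^ 32 := Nat.mul_le_mul_right _ (by norm_num)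
        exact Nat.le_of_mul_le_mul_left (by rw [← mul_assoc, mul_comm (125 ^ 32) 3]; exact h2.trans h3)
          (by norm_num : 0 < 125 ^ 32)
      calc 625 * q ^ 8 * (m + 1) ^ 32 ≤ 625 * q ^ 8 * (3 * m ^ 32) := Nat.mul_le_mul_left _ h1
        _ = 3 * (625 * q ^ 8 * m ^ 32) := by ring
        _ < 3 * q ^ m := Nat.mul_lt_mul_of_pos_left ih (by norm_num)
        _ ≤ q * q ^ m := Nat.mul_le_mul_right _ hq
        _ = _ := by ring
  have base : ∀ m0 q0, 8 ≤ m0 → q0 ≤ q → 625 * m0 ^ 32 < q0 ^ (m0 - 8) → 0 < q →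
      625 * q ^ 8 * m0 ^ 32 < q ^ m0 := by
    intro m0 q0 h8 hq h0 hpos
    calc 625 * q ^ 8 * m0 ^ 32 = q ^ 8 * (625 * m0 ^ 32) := by ring
      _ < q ^ 8 * q ^ (m0 - 8) :=
        Nat.mul_lt_mul_of_pos_left (h0.trans_le (Nat.pow_le_pow_left hq _)) (pow_pos hpos _)
      _ = _ := by rw [← pow_add, Nat.add_sub_cancel' h8]
  rcases h with ⟨hq, hm⟩ | ⟨hq, hm⟩
  · exact key 125 le_rfl (by omega) (base 125 6 (by norm_num) hq (by norm_num) (by omega)) m hm
  · exact key 243 (by norm_num) hq (base 243 3 (by norm_num) hq (by norm_num) (by omega)) m hm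

lemma small_ineq {q m : ℕ} (h : (3 ≤ q ∧ 32 ≤ m) ∨ (4 ≤ q ∧ 24 ≤ m)) :
    2 * m ^ 8 < q ^ (m - 2) := by
  have key : ∀ q0 m0, 3 ≤ q0 → 24 ≤ m0 → 2 * m0 ^ 8 < q0 ^ (m0 - 2) →
      ∀ m, m0 ≤ m → 2 * m ^ 8 < q0 ^ (m - 2) := by
    intro q0 m0 hq0 hm0 h0 m hm
    induction m, hm using Nat.le_induction with
    | base => exact h0
    | succ m hm ih =>
      have h1 : (m + 1) ^ 8 ≤ 3 * m ^ 8 := by
        have h2 : (24 * (m + 1)) ^ 8 ≤ (25 * m) ^ 8 := Nat.pow_le_pow_left (by omega) 8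
        rw [mul_pow, mul_pow] at h2
        omega
      have e : m + 1 - 2 = (m - 2) + 1 := by omega
      rw [e, pow_succ' q0]
      calc 2 * (m + 1) ^ 8 ≤ 3 * (2 * m ^ 8) := by omega
        _ < 3 * q0 ^ (m - 2) := Nat.mul_lt_mul_of_pos_left ih (by norm_num)
        _ ≤ q0 * q0 ^ (m - 2) := Nat.mul_le_mul_right _ hq0
  rcases h with ⟨hq, hm⟩ | ⟨hq, hm⟩
  · exact (key 3 32 le_rfl (by norm_num) (by norm_num) m hm).trans_le (Nat.pow_le_pow_left hq _)
  · exact (key 4 24 (by norm_num) le_rfl (by norm_num) m hm).trans_le (Nat.pow_le_pow_left hq _)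

lemma e_lt {q m e : ℕ} (hq : 2 ≤ q) (hem : e ≤ m) (h : PrimesDvd e q)
    (hb : q ^ (m - 2) ≤ 2 * e ^ 8) : e < 24 := by
  by_contra! he
  have hm8 : e ^ 8 ≤ m ^ 8 := Nat.pow_le_pow_left hem 8
  have h3 := h.three_le hq (by omega)
  have hs : 2 * m ^ 8 < q ^ (m - 2) := by
    rcases h.two_pow_or_four hq (by omega) with ⟨k, rfl⟩ | h4
    · refine small_ineq (Or.inl ⟨h3, le_trans ?_ hem⟩)
      rcases Nat.lt_or_ge k 5 with hk | hk
      · exfalso; interval_cases k <;> norm_num at he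
      · exact le_trans (by norm_num) (Nat.pow_le_pow_right two_pos hk)
    · exact small_ineq (Or.inr ⟨h4, by omega⟩)
  omega

lemma two_mul_le_pow (f : ℕ) : 2 * f ≤ 2 ^ f := by
  cases f with
  | zero => simp
  | succ f => have := f.lt_two_pow_self; rw [pow_succ]; omega

lemma twoeight_ineq {q m f : ℕ} (hq : 3 ≤ q) (hf : 2 ^ f ≤ q) (hm : 16 ≤ m) :
    1 + 4 * ((q - 1) * f * (256 * 15552)) < q ^ m := by
  refine lt_of_lt_of_le ?_ (Nat.pow_le_pow_right (by omega : 1 ≤ q) hm)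
  have h2f : 2 * f ≤ q := (two_mul_le_pow f).trans hf
  rcases eq_or_ne q 3 with rfl | hq3
  · have : f ≤ 1 := by omega
    interval_cases f <;> norm_num
  have h14 : 4 ^ 14 ≤ q ^ 14 := Nat.pow_le_pow_left (by omega) 14
  have h1 : (q - 1) * f ≤ q * q := Nat.mul_le_mul (by omega) (by omega)
  have h2 : (q * q) * 4 ^ 14 ≤ q ^ 16 :=
    (Nat.mul_le_mul_left _ h14).trans (le_of_eq (by ring))
  have h3 : 9 ≤ q * q := by nlinarith
  generalize (q - 1) * f = a at h1 ⊢
  generalize q ^ 16 = b at h2 ⊢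
  generalize q * q = c at h1 h2 h3
  norm_num at h2 ⊢
  omega

lemma e_list {q m e : ℕ} (hq : 2 ≤ q) (hem : e ≤ m) (h : PrimesDvd e q) (he3 : 3 ≤ e) (he4 : e ≠ 4)
    (he24 : e < 24) (hb : 2 * q ^ (m - 2) ≤ e ^ 8) :
    e = 3 ∨ e = 5 ∨ e = 6 ∨ e = 7 ∨ e = 8 ∨ e = 9 ∨ e = 16 := by
  have bad : ∀ b, b ≤ q → e ^ 8 < 2 * b ^ (e - 2) → False := fun b hbq hlt => by
    have h1 : b ^ (e - 2) ≤ q ^ (m - 2) :=
      (Nat.pow_le_pow_left hbq _).trans (Nat.pow_le_pow_right (by omega) (by omega))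
    omega
  have hd : ∀ r, r.Prime → r ∣ e → r ∣ q - 1 := h
  interval_cases e <;> try omega
  · have := hd 2 (by norm_num) (by norm_num); have := hd 5 (by norm_num) (by norm_num)
    exact absurd (bad 11 (by omega) (by norm_num)) id
  · have := hd 11 (by norm_num) (by norm_num)
    exact absurd (bad 12 (by omega) (by norm_num)) id
  · have := hd 2 (by norm_num) (by norm_num); have := hd 3 (by norm_num) (by norm_num)
    exact absurd (bad 7 (by omega) (by norm_num)) id
  · have := hd 13 (by norm_num) (by norm_num)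
    exact absurd (bad 14 (by omega) (by norm_num)) id
  · have := hd 2 (by norm_num) (by norm_num); have := hd 7 (by norm_num) (by norm_num)
    exact absurd (bad 15 (by omega) (by norm_num)) id
  · have := hd 3 (by norm_num) (by norm_num); have := hd 5 (by norm_num) (by norm_num)
    exact absurd (bad 16 (by omega) (by norm_num)) id
  · have := hd 17 (by norm_num) (by norm_num)
    exact absurd (bad 18 (by omega) (by norm_num)) id
  · have := hd 2 (by norm_num) (by norm_num); have := hd 3 (by norm_num) (by norm_num)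
    exact absurd (bad 7 (by omega) (by norm_num)) id
  · have := hd 19 (by norm_num) (by norm_num)
    exact absurd (bad 20 (by omega) (by norm_num)) id
  · have := hd 2 (by norm_num) (by norm_num); have := hd 5 (by norm_num) (by norm_num)
    exact absurd (bad 11 (by omega) (by norm_num)) id
  · have := hd 3 (by norm_num) (by norm_num); have := hd 7 (by norm_num) (by norm_num)
    exact absurd (bad 22 (by omega) (by norm_num)) id
  · have := hd 2 (by norm_num) (by norm_num); have := hd 11 (by norm_num) (by norm_num)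
    exact absurd (bad 23 (by omega) (by norm_num)) id
  · have := hd 23 (by norm_num) (by norm_num)
    exact absurd (bad 24 (by omega) (by norm_num)) id

/-- One case of the finite search. -/
def Bad (e rad K q m f : ℕ) : Prop :=
  3 ≤ q ∧ e ≤ m ∧ (q - 1) % rad = 0 ∧ 1 ≤ f ∧ 2 ^ f ≤ q ∧ 2 * q ^ (m - 2) ≤ e ^ 8 ∧
    (q - 1) * K * f % (q ^ m - 1) = 0

instance (e rad K q m f : ℕ) : Decidable (Bad e rad K q m f) := by unfold Bad; infer_instance

/-- The finite search: no transitive group for this `e`, with `K` a multiple of the order of the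
symplectic factor and its linear group. -/
def Check (e rad K : ℕ) : Prop := ∀ q < 60, ∀ m < 23, ∀ f < 7, ¬ Bad e rad K q m f

instance (e rad K : ℕ) : Decidable (Check e rad K) := by unfold Check; infer_instance

lemma check_3 : Check 3 3 432 := by decide +kernel
lemma check_5 : Check 5 5 12000 := by decide +kernel
lemma check_6 : Check 6 6 10368 := by decide +kernel
lemma check_7 : Check 7 7 98784 := by decide +kernel
lemma check_8 : Check 8 2 1290157424640 := by decide +kernel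
lemma check_9 : Check 9 3 1965150720 := by decide +kernel
lemma check_16 : Check 16 2 1369104324918194995200 := by decide +kernel

lemma pow_pred_le {q m K f : ℕ} (hq : 2 ≤ q) (hm : 1 ≤ m) (hf : 1 ≤ f) (hK : 0 < K)
    (hdvd : q ^ m - 1 ∣ (q - 1) * K * f) : q ^ (m - 1) ≤ K * f := by
  have h1 : q ^ m - 1 ≤ (q - 1) * K * f :=
    Nat.le_of_dvd (Nat.mul_pos (Nat.mul_pos (by omega) hK) hf) hdvd
  have h2 : q ^ m = q ^ (m - 1) * q := by rw [← pow_succ, Nat.sub_add_cancel hm]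
  have h3 : (q - 1) * q ^ (m - 1) ≤ q ^ m - 1 := by
    rw [h2, Nat.sub_mul, one_mul, mul_comm q]
    have : 0 < q ^ (m - 1) := pow_pos (by omega) _
    omega
  exact Nat.le_of_mul_le_mul_left ((h3.trans h1).trans (le_of_eq (mul_assoc _ _ _))) (by omega)

/-- No transitive group. -/
lemma not_transitive {q m f e rad K : ℕ} (hc : Check e rad K) (hq : 3 ≤ q) (hem : e ≤ m)
    (he' : e ≤ 16) (hrad : rad ∣ q - 1) (hf : 1 ≤ f) (hfq : 2 ^ f ≤ q)
    (hb : 2 * q ^ (m - 2) ≤ e ^ 8) (hq60 : q < 60) : ¬ q ^ m - 1 ∣ (q - 1) * K * f := by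
  have hm : m < 23 := by
    by_contra! hm
    have h1 : 3 ^ 21 ≤ q ^ (m - 2) :=
      (Nat.pow_le_pow_right (by norm_num) (by omega : 21 ≤ m - 2)).trans (Nat.pow_le_pow_left hq _)
    have h2 : e ^ 8 ≤ 16 ^ 8 := Nat.pow_le_pow_left he' 8
    norm_num at h1 h2
    omega
  have hf7 : f < 7 := by
    by_contra! h7
    have := (Nat.pow_le_pow_right two_pos h7).trans hfq
    norm_num at this
    omega
  exact fun hd => hc q hq60 m hm f hf7 ⟨hq, hem, Nat.mod_eq_zero_of_dvd hrad, hf, hfq, hb,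
    Nat.mod_eq_zero_of_dvd hd⟩

lemma q_lt_of_five {q m e : ℕ} (hem : e ≤ m) (he : 2 ≤ e) (hb : 2 * q ^ (m - 2) ≤ e ^ 8)
    (hnum : e ^ 8 < 2 * 60 ^ (e - 2)) : q < 60 := by
  by_contra! hq
  have h1 : 60 ^ (e - 2) ≤ q ^ (m - 2) :=
    (Nat.pow_le_pow_left hq _).trans (Nat.pow_le_pow_right (by omega) (by omega))
  omega

lemma q_lt_three {q m f : ℕ} (hq : 2 ≤ q) (hm : 3 ≤ m) (hf : 1 ≤ f) (hfq : 2 ^ f ≤ q)
    (hdvd : q ^ m - 1 ∣ (q - 1) * 432 * f) : q < 60 := by
  by_contra! h60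
  have h1 := pow_pred_le hq (by omega) hf (by norm_num) hdvd
  have h2 : q ^ 2 ≤ q ^ (m - 1) := Nat.pow_le_pow_right (by omega) (by omega)
  have h3 : 2 * f ≤ q := (two_mul_le_pow f).trans hfq
  have h4 : q ≤ 216 := by
    by_contra! h
    nlinarith
  have h5 : f < 8 := by
    by_contra! h8
    have := (Nat.pow_le_pow_right two_pos h8).trans hfq
    norm_num at this
    omega
  nlinarith

end CfsgLib.StabLength.Prim
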