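import Cfsg.Agent.StabLength.Iface
import Mathlib.LinearAlgebra.Matrix.GeneralLinearGroup.Card
import Mathlib.LinearAlgebra.FreeModule.Finite.Basic
import Mathlib.Data.Nat.Squarefree

/-!
The primary parts of a finite abelian group of squarefree exponent under linear groups.
-/

set_option autoImplicit false
set_option linter.unusedSectionVars false
set_option linter.style.haveILetI false

universe u

namespace CfsgLib.StabLength.Prim

open OddBase

variable {W : Type u} [AddCommGroup W]

/-- The elements killed by `r`. -/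
def part (W : Type u) [AddCommGroup W] (r : ℕ) : AddSubgroup W := (nsmulAddMonoidHom r).ker

lemma mem_part {r : ℕ} {x : W} : x ∈ part W r ↔ r • x = 0 := Iff.rfl

lemma inv_part (A : Subgroup (Aut W)) (r : ℕ) : Inv A (part W r) := fun a _ x hx => by
  rw [mem_part] at hx ⊢
  rw [← smul_comm a r x, hx, smul_zero]

lemma part_killed {r : ℕ} (x : part W r) : r • x = 0 := Subtype.ext x.2

variable [Finite W]

lemma squarefree_order (hsq : Squarefree (AddMonoid.exponent W)) (x : W) : Squarefree (addOrderOf x) :=
  hsq.squarefree_of_dvd (AddMonoid.addOrder_dvd_exponent x)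

lemma mem_parts (hsq : Squarefree (AddMonoid.exponent W)) {X : AddSubgroup W}
    (h : ∀ r ∈ (Nat.card W).primeFactors, part W r ≤ X) (x : W) : x ∈ X := by
  induction hn : addOrderOf x using Nat.strong_induction_on generalizing x with
  | _ n ih =>
    subst hn
    rcases eq_or_ne (addOrderOf x) 1 with h1 | h1
    · rw [AddMonoid.addOrderOf_eq_one_iff.mp h1]; exact X.zero_mem
    obtain ⟨r, hr, t, ht⟩ : ∃ r, r.Prime ∧ r ∣ addOrderOf x := Nat.exists_prime_and_dvd h1
    have hco : Nat.Coprime r t := (Nat.squarefree_mul_iff.mp (ht ▸ squarefree_order hsq x)).1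
    have htx : t • x ∈ X := h r (Nat.mem_primeFactors.mpr
      ⟨hr, (Dvd.intro t ht.symm).trans (addOrderOf_dvd_natCard x), Nat.card_pos.ne'⟩)
      (mem_part.mpr (by rw [← mul_nsmul', ← ht, addOrderOf_nsmul_eq_zero]))
    have hrx : r • x ∈ X := by
      refine ih _ ?_ _ rfl
      have hpos := addOrderOf_pos x
      have ht0 : 0 < t := Nat.pos_of_ne_zero fun e => by simp [ht, e] at hpos
      calc addOrderOf (r • x) ≤ t := addOrderOf_le_of_nsmul_eq_zero ht0
              (by rw [← mul_nsmul', Nat.mul_comm, ← ht, addOrderOf_nsmul_eq_zero])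
        _ < r * t := by nlinarith [hr.two_le]
        _ = _ := ht.symm
    have hb : (1 : ℤ) = r * Nat.gcdA r t + t * Nat.gcdB r t := by
      rw [← Nat.gcd_eq_gcd_ab, hco.gcd_eq_one, Nat.cast_one]
    rw [← one_zsmul x, hb, add_zsmul, mul_comm (r : ℤ), mul_comm (t : ℤ), mul_zsmul, mul_zsmul,
      natCast_zsmul, natCast_zsmul]
    exact X.add_mem (X.zsmul_mem hrx _) (X.zsmul_mem htx _)

lemma card_part (hsq : Squarefree (AddMonoid.exponent W)) {r : ℕ} (hr : r.Prime) :
    Nat.card (part W r) = r ^ (Nat.card W).factorization r := by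
  haveI := Fact.mk hr
  obtain ⟨k, hk⟩ := (IsPGroup.iff_card (p := r) (G := Multiplicative (part W r))).mp fun x =>
    ⟨1, by rw [pow_one]; exact congrArg Multiplicative.ofAdd (part_killed (Multiplicative.toAdd x))⟩
  have hk' : Nat.card (part W r) = r ^ k := hk
  have hndvd : ¬ r ∣ Nat.card (nsmulAddMonoidHom r : W →+ W).range := by
    intro h
    obtain ⟨⟨_, x, rfl⟩, hy⟩ := exists_prime_addOrderOf_dvd_card' r h
    rw [← AddSubgroup.addOrderOf_coe] at hy
    change addOrderOf (r • x) = r at hy
    have h2 : (r * r) • x = 0 := by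
      rw [mul_nsmul']
      conv_lhs => arg 1; rw [← hy]
      exact addOrderOf_nsmul_eq_zero _
    have h1 : addOrderOf x ∣ r := by
      have := (addOrderOf_dvd_iff_nsmul_eq_zero.mpr h2)
      rw [← sq] at this
      obtain ⟨i, hi, e⟩ := (Nat.dvd_prime_pow hr).mp this
      rcases Nat.lt_or_ge i 2 with hi2 | hi2
      · rw [e]; exact (pow_dvd_pow r (by omega : i ≤ 1)).trans (pow_one r).dvd
      · exfalso
        refine hr.ne_one (Nat.isUnit_iff.mp (squarefree_order hsq x r ?_))
        rw [e, ← sq]; exact pow_dvd_pow r hi2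
    rw [addOrderOf_dvd_iff_nsmul_eq_zero.mp h1, addOrderOf_zero] at hy
    exact hr.ne_one hy.symm
  have hW : Nat.card W = r ^ k * Nat.card (nsmulAddMonoidHom r : W →+ W).range := by
    rw [← AddSubgroup.card_mul_index (nsmulAddMonoidHom r : W →+ W).ker, AddSubgroup.index_ker, ← hk']
    rfl
  rw [hk', hW, Nat.factorization_mul (pow_ne_zero _ hr.ne_zero) Nat.card_pos.ne', Finsupp.add_apply,
    Nat.factorization_eq_zero_of_not_dvd hndvd, hr.factorization_pow, Finsupp.single_eq_same, add_zero]

/-- The joint restriction to the primary parts. -/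
def toParts (A : Subgroup (Aut W)) :
    A →* ((r : (Nat.card W).primeFactors) → (res A (part W r) (inv_part A r)).range) :=
  MonoidHom.pi fun r => (res A (part W r) (inv_part A r)).rangeRestrict

lemma toParts_injective (hsq : Squarefree (AddMonoid.exponent W)) (A : Subgroup (Aut W)) :
    Function.Injective (toParts A) := by
  refine (injective_iff_map_eq_one _).mpr fun a ha => Subtype.ext (aut_ext fun x => ?_)
  let X : AddSubgroup W :=
    { carrier := {x | (a : Aut W) • x = x}
      zero_mem' := smul_zero _
      add_mem' := fun {x y} hx hy => by rw [Set.mem_ofPred_eq] at *; rw [smul_add, hx, hy]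
      neg_mem' := fun {x} hx => by rw [Set.mem_ofPred_eq] at *; rw [smul_neg, hx] }
  refine (mem_parts hsq (X := X) (fun r hr y hy => ?_) x).trans (one_smul _ x).symm
  have h1 := congrArg Subtype.val (congrFun ha ⟨r, hr⟩)
  have h2 := congrArg Subtype.val
    ((DFunLike.congr_fun (congrArg Units.val h1) ⟨y, hy⟩) : _)
  exact h2

lemma dl_parts (hsq : Squarefree (AddMonoid.exponent W)) (A : Subgroup (Aut W)) {k : ℕ}
    (h : ∀ r ∈ (Nat.card W).primeFactors, DL (res A (part W r) (inv_part A r)).range k) : DL A k :=
  (DL.pi fun r : (Nat.card W).primeFactors => h r r.2).of_injective _ (toParts_injective hsq A)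

/-- The order of the general linear group. -/
def glOrd (r k : ℕ) : ℕ := ∏ i : Fin k, (r ^ k - r ^ (i : ℕ))

lemma card_aut_dvd {r k : ℕ} [Fact r.Prime] (h : ∀ w : W, r • w = 0) (hk : Nat.card W = r ^ k)
    (A : Subgroup (Aut W)) : Nat.card A ∣ glOrd r k := by
  letI : Module (ZMod r) W := AddCommGroup.zmodModule h
  haveI : Module.Finite (ZMod r) W := Module.Finite.of_finite
  have hfr : Module.finrank (ZMod r) W = k := by
    have h1 : Nat.card W = Nat.card (ZMod r) ^ Module.finrank (ZMod r) W := by
      haveI : Fintype W := Fintype.ofFinite W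
      simp only [Nat.card_eq_fintype_card]
      exact Module.card_eq_pow_finrank
    rw [hk, Nat.card_zmod] at h1
    exact (Nat.pow_right_injective (Fact.out : r.Prime).two_le h1).symm
  let b : Module.Basis (Fin k) (ZMod r) W := by exact Module.finBasisOfFinrankEq (ZMod r) W hfr
  let lin : AddMonoid.End W → (W →ₗ[ZMod r] W) := fun φ =>
    { toFun := fun x => φ x, map_add' := map_add φ, map_smul' := ZMod.map_smul φ }
  let f : AddMonoid.End W →* Matrix (Fin k) (Fin k) (ZMod r) :=
    { toFun := fun φ => LinearMap.toMatrix b b (lin φ)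
      map_one' := by
        rw [show lin 1 = LinearMap.id from LinearMap.ext fun x => by simp [lin], LinearMap.toMatrix_id]
      map_mul' := fun φ ψ => by
        rw [show lin (φ * ψ) = (lin φ).comp (lin ψ) from LinearMap.ext fun x => by simp [lin],
          LinearMap.toMatrix_comp b b b] }
  have hinj : Function.Injective (Units.map f) :=
    Units.map_injective fun φ ψ e => by
      replace e : LinearMap.toMatrix b b (lin φ) = LinearMap.toMatrix b b (lin ψ) := e
      rw [EmbeddingLike.apply_eq_iff_eq] at e
      exact DFunLike.ext _ _ fun x => LinearMap.congr_fun e x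
  have hd := (Subgroup.card_subgroup_dvd_card A).trans (Subgroup.card_dvd_of_injective _ hinj)
  rwa [Matrix.card_GL_field, ZMod.card] at hd

lemma card_dvd_parts (hsq : Squarefree (AddMonoid.exponent W)) (A : Subgroup (Aut W)) (L : Finset ℕ)
    (hL : (Nat.card W).primeFactors = L) :
    Nat.card A ∣ ∏ r ∈ L, glOrd r ((Nat.card W).factorization r) := by
  subst hL
  refine (Subgroup.card_dvd_of_injective _ (toParts_injective hsq A)).trans ?_
  rw [Nat.card_pi, ← Finset.prod_coe_sort (Nat.card W).primeFactors]
  refine Finset.prod_dvd_prod_of_dvd _ _ fun r _ => ?_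
  haveI := Fact.mk (Nat.prime_of_mem_primeFactors r.2)
  exact card_aut_dvd (fun w => part_killed w) (card_part hsq Fact.out) _

lemma part_eq_top (hsq : Squarefree (AddMonoid.exponent W)) {r k : ℕ} (hr : r.Prime)
    (hk : Nat.card W = r ^ k) (w : W) : r • w = 0 := by
  have h : part W r = ⊤ := AddSubgroup.eq_top_of_card_eq _ (by
    rw [card_part hsq hr, hk, hr.factorization_pow, Finsupp.single_eq_same])
  exact mem_part.mp (h ▸ AddSubgroup.mem_top w)

end CfsgLib.StabLength.Prim
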