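import Cfsg.Agent.StabLength.Main
import Cfsg.Agent.StabLength.Prim.Basic
import Cfsg.Agent.StabLength.Prim.Parts
import Cfsg.Agent.StabLength.Prim.Numeric
import Cfsg.Agent.SolvBase.Count

/-!
A soluble linear group all of whose normal abelian subgroups span fields is good.
-/

set_option autoImplicit false
set_option linter.unusedSectionVars false
set_option linter.style.haveILetI false

universe u

namespace CfsgLib.StabLength.Prim

open OddBase SolvBase

variable {V : Type u} [AddCommGroup V] [Finite V] [Nontrivial V]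

lemma card_H_le {S : Setup (Aut V)} (hsol : Group.IsSolvable S.A) :
    Nat.card (S.act.comp (Subgroup.inclusion S.c_le)).range ≤ Nat.card S.U ^ 3 := by
  haveI := hsol
  obtain ⟨t, ht⟩ := triGood _ (Additive S.U) rfl S.act.range (solvable_range _ hsol) S.cr_act
  set H := (S.act.comp (Subgroup.inclusion S.c_le)).range
  refine le_trans (Nat.card_le_card_of_injective
    (fun h : H => ((h : Aut (Additive S.U)) • t.1, (h : Aut (Additive S.U)) • t.2.1,
      (h : Aut (Additive S.U)) • t.2.2)) fun h h' e => ?_) ?_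
  · simp only [Prod.mk.injEq] at e
    obtain ⟨e1, e2, e3⟩ := e
    refine Subtype.ext (inv_mul_eq_one.mp
      (ht _ (range_le S S.c_le (H.mul_mem (H.inv_mem h'.2) h.2)) ?_ ?_ ?_)).symm
    · rw [mul_smul, e1, inv_smul_smul]
    · rw [mul_smul, e2, inv_smul_smul]
    · rw [mul_smul, e3, inv_smul_smul]
  · rw [Nat.card_prod, Nat.card_prod]
    exact le_of_eq (by rw [show Nat.card (Additive S.U) = Nat.card S.U from rfl]; ring)

/-- Stabilisers are trivial outside a small set. -/
theorem five_of_size {S : Setup (Aut V)}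
    (hC : S.C = S.A ⊓ Subgroup.centralizer (S.A0 : Set (Aut V))) (hf : Fpf S)
    (hbig : 625 * Nat.card S.A ^ 4 < Nat.card V) : Five S.A := by
  classical
  haveI : Fintype S.A := Fintype.ofFinite _
  haveI : Fintype V := Fintype.ofFinite _
  let φ : S.A → ℕ := fun g => if g = 1 then 1 else Nat.card (fixA (g : Aut V))
  obtain ⟨g0, -, hg0⟩ := Finset.exists_max_image Finset.univ φ ⟨1, Finset.mem_univ _⟩
  have hV1 : 1 ≤ Nat.card V ^ 3 := Nat.one_le_pow _ _ Nat.card_pos
  have hM : φ g0 ^ 4 ≤ Nat.card V ^ 3 := by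
    simp only [φ]
    split_ifs with h
    · simpa using hV1
    · exact fix_bound hC hf g0.2 fun e => h (Subtype.ext e)
  have hM1 : 1 ≤ φ g0 := by
    have := hg0 1 (Finset.mem_univ _)
    rwa [show φ 1 = 1 from if_pos rfl] at this
  set s : Set V := {v | stabV S.A v = ⊥}
  refine five_of_many s (fun v hv => ?_) ?_
  · rw [show stabV S.A v = ⊥ from hv]
    exact DL.of_subsingleton _
  by_contra! hs
  have hsub : (Set.univ : Set V) ⊆ s ∪ ⋃ g ∈ Finset.univ.filter (fun g : S.A => g ≠ 1),
      ((fixA (g : Aut V) : AddSubgroup V) : Set V) := fun v _ => by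
    by_cases hv : stabV S.A v = ⊥
    · exact Or.inl hv
    · obtain ⟨g, hg, hg1⟩ := (Subgroup.bot_or_exists_ne_one _).resolve_left hv
      refine Or.inr (Set.mem_iUnion₂.mpr ⟨⟨g, hg.1⟩, ?_, mem_fixA.mpr hg.2⟩)
      exact Finset.mem_filter.mpr ⟨Finset.mem_univ _, fun e => hg1 (congrArg Subtype.val e)⟩
  have h1 : Nat.card V ≤ 4 * Nat.card S.A + Nat.card S.A * φ g0 := by
    rw [← Set.ncard_univ]
    refine (Set.ncard_le_ncard hsub (Set.toFinite _)).trans ((Set.ncard_union_le _ _).trans ?_)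
    refine Nat.add_le_add hs ((Finset.set_ncard_biUnion_le _ _).trans ?_)
    refine (Finset.sum_le_card_nsmul _ _ (φ g0) fun g hg => ?_).trans ?_
    · have h := hg0 g (Finset.mem_univ _)
      rw [show φ g = Nat.card (fixA (g : Aut V)) from if_neg (Finset.mem_filter.mp hg).2] at h
      rwa [← Nat.card_coe_set_eq]
    · rw [smul_eq_mul, Nat.card_eq_fintype_card (α := S.A)]
      exact Nat.mul_le_mul_right _ (Finset.card_le_univ _)
  have h2 : Nat.card V ≤ 5 * (Nat.card S.A * φ g0) := by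
    have := Nat.le_mul_of_pos_right (Nat.card S.A) hM1
    omega
  have h3 := Nat.pow_le_pow_left h2 4
  have h4 : (5 * (Nat.card S.A * φ g0)) ^ 4 ≤ 625 * Nat.card S.A ^ 4 * Nat.card V ^ 3 := by
    rw [mul_pow, mul_pow, ← mul_assoc]
    exact Nat.mul_le_mul_left _ hM
  have h5 : 625 * Nat.card S.A ^ 4 * Nat.card V ^ 3 < Nat.card V * Nat.card V ^ 3 :=
    Nat.mul_lt_mul_of_pos_right hbig hV1
  rw [← pow_succ'] at h5
  exact absurd (h3.trans h4) h5.not_ge

set_option maxHeartbeats 1000000 in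
/-- The primitive case, from the parameters. -/
theorem good_setup (htab : TableBound.{u}) (h64 : SixtyFour.{u}) (h28 : TwoEight.{u})
    {S : Setup (Aut V)} (hC : S.C = S.A ⊓ Subgroup.centralizer (S.A0 : Set (Aut V))) (hf : Fpf S)
    (hsol : Group.IsSolvable S.A) {q m f d : ℕ} (hd : d ∣ f) (hf1 : 1 ≤ f) (hq2 : 2 ≤ q)
    (hqf : 2 ^ f ≤ q) (hV : q ^ m = Nat.card V) (hA : Nat.card S.A = Nat.card S.C * d)
    (ha : Nat.card S.A0 ∣ q - 1) (hu : Nat.card S.U ≤ m * m) : Good S.A := by
  classical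
  haveI := hsol
  set R := S.act.range with hRdef
  have hsq : Squarefree (AddMonoid.exponent (Additive S.U)) := by
    rw [AddMonoid.exponent_additive]
    exact exponent_squarefree
  have hRsol : Group.IsSolvable R := solvable_range _ hsol
  have hcr : CR R := S.cr_act
  obtain ⟨e, he⟩ := S.isSquare_card
  have hW : Nat.card (Additive S.U) = e * e := he
  have he0 : e ≠ 0 := fun h => (Nat.card_pos (α := S.U)).ne' (by rw [he, h])
  have hem : e ≤ m := Nat.mul_self_le_mul_self_iff.mp (he ▸ hu)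
  have hpd : PrimesDvd e q := fun r hr hre =>
    (S.prime_dvd hr (he ▸ dvd_mul_of_dvd_left hre e)).trans ha
  have hfac : ∀ r, (Nat.card (Additive S.U)).factorization r = 2 * e.factorization r := fun r => by
    rw [hW, Nat.factorization_mul he0 he0, Finsupp.add_apply, two_mul]
  have hdlR : ∀ k, (∀ r, r.Prime → r ∣ e →
      DL (res R (part (Additive S.U) r) (inv_part R r)).range k) → DL R k := fun k h =>
    dl_parts hsq R fun r hr => by
      have hp := Nat.prime_of_mem_primeFactors hr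
      have hdv := Nat.dvd_of_mem_primeFactors hr
      rw [hW] at hdv
      exact h r hp ((hp.dvd_mul.mp hdv).elim id id)
  have tab := fun (r : ℕ) (hr : r.Prime) =>
    htab (part (Additive S.U) r) r (2 * e.factorization r) hr (fun w => part_killed w)
      (by rw [card_part hsq hr, hfac]) (res R (part (Additive S.U) r) (inv_part R r)).range
      (solvable_range _ hRsol) (hcr.res (inv_part R r))
  have hord : ∀ r, r ^ e.factorization r ≤ e := fun r => Nat.ordProj_le r he0
  -- orders
  set H := (S.act.comp (Subgroup.inclusion S.c_le)).range with hHdef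
  have hAe : Nat.card S.A = e * e * Nat.card S.A0 * Nat.card H * d := by
    rw [hA, S.card_C, S.card_E, he]
  have haq : Nat.card S.A0 ≤ q - 1 := Nat.le_of_dvd (by omega) ha
  have hdf : d ≤ f := Nat.le_of_dvd hf1 hd
  have hAle : Nat.card S.A ≤ (q - 1) * f * e ^ 8 := by
    have hH := card_H_le (S := S) hsol
    rw [he] at hH
    rw [hAe]
    calc e * e * Nat.card S.A0 * Nat.card H * d ≤ e * e * (q - 1) * (e * e) ^ 3 * f :=
          Nat.mul_le_mul (Nat.mul_le_mul (Nat.mul_le_mul_left _ haq) hH) hdf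
      _ = _ := by ring
  have h2f : 2 * f ≤ q := (two_mul_le_pow f).trans hqf
  -- derived length eight outside the large case
  by_cases hbig : ∃ r, r.Prime ∧ r ∣ e ∧ ((r = 2 ∧ 8 ≤ e.factorization r) ∨
      (r = 3 ∧ 5 ≤ e.factorization r) ∨ (5 ≤ r ∧ 3 ≤ e.factorization r))
  · obtain ⟨r, hr, hre, hcase⟩ := hbig
    have hrq := hpd.lt hq2 hr hre
    have hb : (6 ≤ q ∧ 125 ≤ m) ∨ (3 ≤ q ∧ 243 ≤ m) := by
      rcases hcase with ⟨rfl, hj⟩ | ⟨rfl, hj⟩ | ⟨h5, hj⟩
      · refine Or.inr ⟨by omega, le_trans ?_ ((hord 2).trans hem)⟩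
        exact le_trans (by norm_num) (Nat.pow_le_pow_right (by norm_num) hj)
      · refine Or.inr ⟨by omega, le_trans ?_ ((hord 3).trans hem)⟩
        exact le_trans (by norm_num) (Nat.pow_le_pow_right (by norm_num) hj)
      · refine Or.inl ⟨by omega, le_trans ?_ ((hord r).trans hem)⟩
        exact le_trans (by norm_num : 125 ≤ 5 ^ 3)
          ((Nat.pow_le_pow_left h5 3).trans (Nat.pow_le_pow_right (by omega) hj))
    refine Or.inl (five_of_size hC hf ?_)
    rw [← hV]
    have h1 : Nat.card S.A ≤ q ^ 2 * m ^ 8 := by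
      refine (card_A_le hsol hC).trans ?_
      rw [he, show (e * e) ^ 4 = e ^ 8 by ring]
      exact Nat.mul_le_mul (Nat.pow_le_pow_left (by omega) 2) (Nat.pow_le_pow_left hem 8)
    calc 625 * Nat.card S.A ^ 4 ≤ 625 * (q ^ 2 * m ^ 8) ^ 4 :=
          Nat.mul_le_mul_left _ (Nat.pow_le_pow_left h1 4)
      _ = 625 * q ^ 8 * m ^ 32 := by ring
      _ < _ := big_ineq hb
  push Not at hbig
  have hR8 : DL R 8 := hdlR 8 fun r hr hre => by
    obtain ⟨-, h26, h27, -, h38, -, h4⟩ := tab r hr
    obtain ⟨b2, b3, b5⟩ := hbig r hr hre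
    rcases eq_or_ne r 2 with h | h
    · exact (h27 h (by have := b2 h; omega)).mono (by norm_num)
    rcases eq_or_ne r 3 with h3 | h3
    · exact h38 h3 (by have := b3 h3; omega)
    have h5 : 5 ≤ r := by
      have := hr.two_le
      rcases eq_or_ne r 4 with rfl | h4'
      · norm_num at hr
      · omega
    exact (h4 (by have := b5 h5; omega)).mono (by norm_num)
  -- few orbits
  rcases five_or_small (A := S.A) (fun w hw =>
      dl_stab_succ S hC hf hw (by norm_num) (hR8.of_le (range_le S _))) with h | hsmall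
  · exact Or.inl h
  rw [← hV] at hsmall
  have hee : 1 ≤ e ^ 8 := Nat.one_le_pow _ _ (Nat.pos_of_ne_zero he0)
  have hcut : ∀ c, q ^ m ≤ c * e ^ 8 * q ^ 2 → 2 ≤ m → q ^ (m - 2) ≤ c * e ^ 8 := fun c hc hm2 => by
    rw [show q ^ m = q ^ (m - 2) * q ^ 2 by rw [← pow_add, Nat.sub_add_cancel hm2]] at hc
    exact Nat.le_of_mul_le_mul_right hc (pow_pos (by omega) 2)
  have hqf' : (q - 1) * f * e ^ 8 + f * e ^ 8 = q * f * e ^ 8 := by
    rw [← Nat.add_mul, Nat.mul_comm (q - 1) f, Nat.mul_comm q f, ← Nat.mul_succ]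
    congr 2
    omega
  have hfe : 1 ≤ f * e ^ 8 := Nat.mul_pos hf1 hee
  have hqq : 2 * (q * f * e ^ 8) ≤ e ^ 8 * q ^ 2 := by
    calc 2 * (q * f * e ^ 8) = 2 * f * (q * e ^ 8) := by ring
      _ ≤ q * (q * e ^ 8) := Nat.mul_le_mul_right _ h2f
      _ = _ := by ring
  have he24 : e < 24 := by
    refine e_lt hq2 hem hpd ?_
    rcases Nat.lt_or_ge m 2 with hm | hm
    · rw [Nat.sub_eq_zero_of_le hm.le, pow_zero]; omega
    · refine hcut 2 ?_ hm
      rw [mul_assoc]
      omega
  have hj : ∀ r, r.Prime → (r = 2 → e.factorization r ≤ 4) ∧ (r = 3 → e.factorization r ≤ 2) ∧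
      (5 ≤ r → e.factorization r ≤ 1) := fun r hr => by
    have h := hord r
    refine ⟨fun h2 => ?_, fun h3 => ?_, fun h5 => ?_⟩ <;> by_contra! hlt
    · subst h2
      have : 2 ^ 5 ≤ 2 ^ e.factorization 2 := Nat.pow_le_pow_right (by norm_num) hlt
      omega
    · subst h3
      have : 3 ^ 3 ≤ 3 ^ e.factorization 3 := Nat.pow_le_pow_right (by norm_num) hlt
      omega
    · have h1 : 5 ^ 2 ≤ r ^ e.factorization r :=
        (Nat.pow_le_pow_left h5 2).trans (Nat.pow_le_pow_right (by omega) hlt)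
      omega
  have h5le : ∀ r, r.Prime → r ≠ 2 → r ≠ 3 → 5 ≤ r := fun r hr h2 h3 => by
    have := hr.two_le
    rcases eq_or_ne r 4 with rfl | h4'
    · norm_num at hr
    · omega
  have hR6 : DL R 6 := hdlR 6 fun r hr hre => by
    obtain ⟨-, h26, -, h35, -, h4, -⟩ := tab r hr
    obtain ⟨b2, b3, b5⟩ := hj r hr
    rcases eq_or_ne r 2 with h | h
    · exact h26 h (by have := b2 h; omega)
    rcases eq_or_ne r 3 with h3 | h3
    · exact (h35 h3 (by have := b3 h3; omega)).mono (by norm_num)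
    · exact (h4 (by have := b5 (h5le r hr h h3); omega)).mono (by norm_num)
  have hA8 : DL S.A 8 := dl_A S hC (by norm_num) hR6
  -- stabilisers of length six
  have hstab : ∀ w : V, w ≠ 0 → DL (stabV S.A w) 6 := by
    intro w hw
    set T := stabV S.A w
    set TR := (S.act.comp (Subgroup.inclusion (inf_le_left : T ≤ S.A))).range
    by_cases h5 : DL TR 5
    · exact dl_stab_succ S hC hf hw (by norm_num) h5
    have hR5 : ¬ DL R 5 := fun h => h5 (h.of_le (range_le S _))
    have h8 : 8 ∣ e := by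
      by_contra h8
      refine hR5 (hdlR 5 fun r hr hre => ?_)
      obtain ⟨h23, -, -, h35, -, h4, -⟩ := tab r hr
      obtain ⟨b2, b3, b5⟩ := hj r hr
      rcases eq_or_ne r 2 with rfl | h
      · refine (h23 rfl ?_).mono (by norm_num)
        by_contra! hlt
        exact h8 ((pow_dvd_pow 2 (by omega : 3 ≤ e.factorization 2)).trans (Nat.ordProj_dvd e 2))
      rcases eq_or_ne r 3 with h3 | h3
      · exact h35 h3 (by have := b3 h3; omega)
      · exact (h4 (by have := b5 (h5le r hr h h3); omega)).mono (by norm_num)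
    obtain rfl | rfl : e = 8 ∨ e = 16 := by omega
    · have h2 : ∀ w : Additive S.U, 2 • w = 0 :=
        part_eq_top hsq Nat.prime_two (k := 6) (by rw [hW]; norm_num)
      refine dl_stab_irr S hC hf hw (by rw [he]; norm_num) (by norm_num) ?_ (hR6.of_le (range_le S _))
      exact h64 (Additive S.U) (by rw [hW]) h2 R hRsol hcr TR (range_le S _) h5
    · exfalso
      have h2 : ∀ w : Additive S.U, 2 • w = 0 :=
        part_eq_top hsq Nat.prime_two (k := 8) (by rw [hW]; norm_num)
      have hR := h28 (Additive S.U) (by rw [hW]) h2 R hRsol hcr hR5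
      have hH : Nat.card H ≤ 15552 :=
        (Nat.card_le_card_of_injective _ (Subgroup.inclusion_injective (range_le S S.c_le))).trans hR
      have hA' : Nat.card S.A ≤ (q - 1) * f * (256 * 15552) := by
        rw [hAe]
        calc 16 * 16 * Nat.card S.A0 * Nat.card H * d ≤ 16 * 16 * (q - 1) * 15552 * f :=
              Nat.mul_le_mul (Nat.mul_le_mul (Nat.mul_le_mul_left _ haq) hH) hdf
          _ = _ := by ring
      have := twoeight_ineq (hpd.three_le hq2 (by norm_num)) hqf hem
      omega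
  -- two orbits
  obtain ⟨w0, hw0⟩ := exists_ne (0 : V)
  by_cases htwo : ∃ w1 w2 : V, w1 ≠ 0 ∧ w2 ≠ 0 ∧ ∀ a ∈ S.A, a • w1 ≠ w2
  · obtain ⟨w1, w2, h1, h2, h⟩ := htwo
    exact Or.inr (Or.inr ⟨hA8, w1, w2, h1, h2, hstab w1 h1, hstab w2 h2, h⟩)
  push Not at htwo
  by_cases hsmallE : ∀ r, r.Prime → r ∣ e → r = 2 ∧ e.factorization r ≤ 2
  · have hR3 : DL R 3 := hdlR 3 fun r hr hre =>
      (tab r hr).1 (hsmallE r hr hre).1 (by have := (hsmallE r hr hre).2; omega)
    exact Or.inr (Or.inl ⟨(dl_A S hC (by norm_num) hR3).mono (by norm_num), w0, hw0,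
      dl_stab_succ S hC hf hw0 (by norm_num) (hR3.of_le (range_le S _))⟩)
  exfalso
  -- transitivity
  have hdvd : q ^ m - 1 ∣ Nat.card S.A := by
    have horb : MulAction.orbit S.A w0 = ({0} : Set V)ᶜ := by
      ext v
      refine ⟨?_, fun hv => ?_⟩
      · rintro ⟨⟨a, ha'⟩, rfl⟩ h
        exact hw0 ((smul_eq_zero_iff_eq a).mp h)
      · obtain ⟨a, ha', e'⟩ := htwo w0 v hw0 hv
        exact ⟨⟨a, ha'⟩, e'⟩
    have h1 := MulAction.index_stabilizer S.A w0
    rw [horb, Set.ncard_compl ({0} : Set V), Set.ncard_singleton, ← hV] at h1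
    rw [← h1]
    exact Subgroup.index_dvd_card _
  have hHR : Nat.card H ∣ Nat.card R := Subgroup.card_dvd_of_le (range_le S S.c_le)
  have hdvd' : ∀ K, e * e * Nat.card R ∣ K → q ^ m - 1 ∣ (q - 1) * K * f := fun K hK => by
    refine hdvd.trans ?_
    rw [hAe, show e * e * Nat.card S.A0 * Nat.card H * d = Nat.card S.A0 * (e * e * Nat.card H) * d by ring]
    exact Nat.mul_dvd_mul (Nat.mul_dvd_mul ha ((Nat.mul_dvd_mul_left _ hHR).trans hK)) hd
  have he3 : 3 ≤ e ∧ e ≠ 4 := by
    push Not at hsmallE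
    obtain ⟨r, hr, hre, hr2⟩ := hsmallE
    have hle := Nat.le_of_dvd (Nat.pos_of_ne_zero he0) hre
    rcases eq_or_ne r 2 with rfl | hne
    · have h := le_trans (Nat.pow_le_pow_right two_pos (hr2 rfl)) (hord 2)
      omega
    · refine ⟨by have := hr.two_le; omega, ?_⟩
      rintro rfl
      exact hne ((Nat.prime_dvd_prime_iff_eq hr Nat.prime_two).mp (hr.dvd_of_dvd_pow (n := 2) hre))
  have hb : 2 * q ^ (m - 2) ≤ e ^ 8 := by
    have hm : 2 ≤ m := by omega
    have h1 : q ^ m - 1 ≤ Nat.card S.A := Nat.le_of_dvd Nat.card_pos hdvd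
    have h2 : 2 * q ^ m ≤ e ^ 8 * q ^ 2 := by omega
    have h3 : q ^ m = q ^ (m - 2) * q ^ 2 := by rw [← pow_add, Nat.sub_add_cancel hm]
    rw [h3, ← mul_assoc] at h2
    exact Nat.le_of_mul_le_mul_right h2 (pow_pos (by omega) 2)
  have hq3 : 3 ≤ q := hpd.three_le hq2 (by omega)
  have hK : ∀ r j, r.Prime → e = r ^ j → Nat.card R ∣ glOrd r (2 * j) := fun r j hr hrj => by
    haveI := Fact.mk hr
    have hc : Nat.card (Additive S.U) = r ^ (2 * j) := by rw [hW, hrj, two_mul, pow_add]
    exact card_aut_dvd (part_eq_top hsq hr hc) hc R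
  rcases e_list hq2 hem hpd he3.1 he3.2 he24 hb with h | h | h | h | h | h | h <;> subst h
  · have hd' := hdvd' 432 ((Nat.mul_dvd_mul_left _ (hK 3 1 Nat.prime_three rfl)).trans (by decide +kernel))
    exact not_transitive check_3 hq3 hem (by norm_num) (hpd 3 Nat.prime_three dvd_rfl) hf1 hqf hb
      (q_lt_three hq2 hem hf1 hqf hd') hd'
  · exact not_transitive check_5 hq3 hem (by norm_num) (hpd 5 (by norm_num) dvd_rfl) hf1 hqf hb
      (q_lt_of_five hem (by norm_num) hb (by norm_num))
      (hdvd' 12000 ((Nat.mul_dvd_mul_left _ (hK 5 1 (by norm_num) rfl)).trans (by decide +kernel)))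
  · have h6 : 6 ∣ q - 1 := (Nat.Coprime.mul_dvd_of_dvd_of_dvd (by norm_num : Nat.Coprime 2 3)
      (hpd 2 Nat.prime_two (by norm_num)) (hpd 3 Nat.prime_three (by norm_num)))
    refine not_transitive check_6 hq3 hem (by norm_num) h6 hf1 hqf hb
      (q_lt_of_five hem (by norm_num) hb (by norm_num)) (hdvd' 10368 ?_)
    have hpf : (Nat.card (Additive S.U)).primeFactors = {2, 3} := by
      rw [hW, show 6 * 6 = 2 ^ 2 * 3 ^ 2 by norm_num, Nat.primeFactors_mul (by norm_num) (by norm_num),
        Nat.primeFactors_prime_pow (by norm_num) Nat.prime_two,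
        Nat.primeFactors_prime_pow (by norm_num) Nat.prime_three]
      rfl
    have hf6 : (6 : ℕ).factorization 2 = 1 ∧ (6 : ℕ).factorization 3 = 1 := by
      rw [show (6 : ℕ) = 2 * 3 by norm_num, Nat.factorization_mul (by norm_num) (by norm_num),
        Nat.prime_two.factorization, Nat.prime_three.factorization]
      simp
    have h := card_dvd_parts hsq R {2, 3} hpf
    rw [Finset.prod_pair (by norm_num), hfac, hfac, hf6.1, hf6.2] at h
    exact (Nat.mul_dvd_mul_left _ h).trans (by decide +kernel)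
  · exact not_transitive check_7 hq3 hem (by norm_num) (hpd 7 (by norm_num) dvd_rfl) hf1 hqf hb
      (q_lt_of_five hem (by norm_num) hb (by norm_num))
      (hdvd' 98784 ((Nat.mul_dvd_mul_left _ (hK 7 1 (by norm_num) rfl)).trans (by decide +kernel)))
  · exact not_transitive check_8 hq3 hem (by norm_num) (hpd 2 Nat.prime_two (by norm_num)) hf1 hqf hb
      (q_lt_of_five hem (by norm_num) hb (by norm_num))
      (hdvd' 1290157424640 ((Nat.mul_dvd_mul_left _ (hK 2 3 Nat.prime_two rfl)).trans (by decide +kernel)))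
  · exact not_transitive check_9 hq3 hem (by norm_num) (hpd 3 Nat.prime_three (by norm_num)) hf1 hqf hb
      (q_lt_of_five hem (by norm_num) hb (by norm_num))
      (hdvd' 1965150720 ((Nat.mul_dvd_mul_left _ (hK 3 2 Nat.prime_three rfl)).trans (by decide +kernel)))
  · exact not_transitive check_16 hq3 hem le_rfl (hpd 2 Nat.prime_two (by norm_num)) hf1 hqf hb
      (q_lt_of_five hem (by norm_num) hb (by norm_num))
      (hdvd' 1369104324918194995200
        ((Nat.mul_dvd_mul_left _ (hK 2 4 Nat.prime_two rfl)).trans (by decide +kernel)))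

/-- The primitive case. -/
theorem primGood (htab : TableBound.{u}) (h64 : SixtyFour.{u}) (h28 : TwoEight.{u}) : PrimGood.{u} := by
  intro V _ _ _ A hsol hfield
  obtain ⟨D, hC⟩ := exists_primData_cent hsol hfield
  have h2 : 2 ≤ D.q := D.hq ▸ D.hp.two_le.trans (Nat.le_self_pow (by have := D.hf; omega) _)
  have := good_setup htab h64 h28 (S := D.S) (by rw [hC, D.hA]) D.fpf (D.hA.symm ▸ hsol) D.hd D.hf h2
    (D.hq ▸ Nat.pow_le_pow_left D.hp.two_le _) D.hV (by rw [D.hA]; exact D.card_A) D.a0_dvd D.u_le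
  rwa [D.hA] at this

end CfsgLib.StabLength.Prim
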